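import Cfsg.Agent.H61.NsePGL.Count
import Mathlib.GroupTheory.Sylow
import Mathlib.GroupTheory.FixedPointFree
import Mathlib.GroupTheory.GroupAction.MultiplePrimitivity

/-!
A group of order `q (q² - 1)` with `q² - 1` elements of order `p`, `q²` involutions and, for every other
order, a multiple of `q` elements of that order acts sharply 3-transitively on its `q + 1` Sylow
`p`-subgroups, with commutative two-point stabilisers.
-/

set_option autoImplicit false

namespace H61.NsePGL

open H26 MulAction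
open scoped Pointwise

variable {X : Type*} [Group X] [Finite X]

/-- The counting data. -/
structure Like (X : Type*) [Group X] [Finite X] (p q : ℕ) : Prop where
  base : Base X p q
  dvd : ∀ n, n ≠ 1 → n ≠ p → q ∣ ocnt X n
  cp : ocnt X p = cof q
  ctwo : ocnt X 2 = q * q

namespace Like

variable {p q : ℕ} (h : Like X p q)
include h

theorem single {g : X} (hg : p ∣ orderOf g) : orderOf g = p := h.base.single h.dvd h.cp g hg

theorem orderOf_mem [Fact p.Prime] {P : Sylow p X} {x : X} (hx : x ∈ (P : Subgroup X)) (h1 : x ≠ 1) :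
    orderOf x = p := by
  refine h.single ?_
  obtain ⟨k, hk⟩ := P.2.exists_orderOf_eq_pow ⟨x, hx⟩
  rw [Subgroup.orderOf_mk] at hk
  rw [hk]
  rcases k with _ | k
  · exact absurd (orderOf_eq_one_iff.1 (by simpa using hk)) h1
  · exact dvd_pow_self p k.succ_ne_zero

theorem card_sylow [Fact p.Prime] (P : Sylow p X) : Nat.card (P : Subgroup X) = q := by
  obtain ⟨f, hf, hq⟩ := h.base.pow
  rw [P.card_eq_multiplicity, h.base.card_eq,
    Nat.factorization_mul (by have := h.base.five; omega) h.base.cof_pos.ne', Finsupp.add_apply,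
    Nat.factorization_eq_zero_of_not_dvd h.base.not_dvd_cof, add_zero]
  rw [hq, h.base.prime.factorization_pow, Finsupp.single_eq_same]

theorem pow_eq_one_of_commute [Fact p.Prime] {x y : X} (hx : orderOf x = p) (hc : Commute x y) : y ^ p = 1 := by
  by_cases h1 : y = 1
  · rw [h1, one_pow]
  suffices orderOf y = p by rw [← this, pow_orderOf_eq_one]
  refine h.single ?_
  by_contra hnd
  have hcop : (orderOf x).Coprime (orderOf y) := by
    rw [hx]; exact h.base.prime.coprime_iff_not_dvd.2 hnd
  have h2 := hc.orderOf_mul_eq_mul_orderOf_of_coprime hcop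
  have h3 := h.single (g := x * y) (by rw [h2, hx]; exact dvd_mul_right _ _)
  rw [h2, hx] at h3
  exact h1 (orderOf_eq_one_iff.1 (Nat.eq_of_mul_eq_mul_left h.base.prime.pos (h3.trans (mul_one p).symm)))

theorem centralizer_isPGroup [Fact p.Prime] {x : X} (hx : orderOf x = p) :
    IsPGroup p (Subgroup.centralizer ({x} : Set X)) := fun y => ⟨1, by
  rw [pow_one]
  exact Subtype.ext (h.pow_eq_one_of_commute hx (Subgroup.mem_centralizer_singleton_iff.1 y.2).symm)⟩

/-- Elements of order `p` have centralisers of order `q` and are all conjugate. -/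
theorem centralizer_card [Fact p.Prime] {x : X} (hx : orderOf x = p) :
    Nat.card (Subgroup.centralizer ({x} : Set X)) = q ∧ ∀ y : X, orderOf y = p → ∃ g : X, g * x * g⁻¹ = y := by
  set C := Subgroup.centralizer ({x} : Set X)
  let φ : X ⧸ C → {y : X // orderOf y = p} := Quotient.lift
    (fun g => ⟨g * x * g⁻¹, by rw [← MulAut.conj_apply, MulEquiv.orderOf_eq]; exact hx⟩)
    (fun a b hab => by
      refine Subtype.ext ?_
      have hm : a⁻¹ * b ∈ C := QuotientGroup.leftRel_apply.1 hab
      have h2 : a⁻¹ * b * x = x * (a⁻¹ * b) := Subgroup.mem_centralizer_singleton_iff.1 hm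
      show a * x * a⁻¹ = b * x * b⁻¹
      calc a * x * a⁻¹ = a * (x * (a⁻¹ * b)) * b⁻¹ := by group
        _ = a * (a⁻¹ * b * x) * b⁻¹ := by rw [h2]
        _ = b * x * b⁻¹ := by group)
  have hφ : Function.Injective φ := by
    intro u v huv
    induction u using Quotient.inductionOn with | h a => ?_
    induction v using Quotient.inductionOn with | h b => ?_
    have huv' : a * x * a⁻¹ = b * x * b⁻¹ := congrArg Subtype.val huv
    refine Quotient.sound (QuotientGroup.leftRel_apply.2 (Subgroup.mem_centralizer_singleton_iff.2 ?_))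
    calc a⁻¹ * b * x = a⁻¹ * (b * x * b⁻¹) * b := by group
      _ = a⁻¹ * (a * x * a⁻¹) * b := by rw [huv']
      _ = x * (a⁻¹ * b) := by group
  have hle : Nat.card C ≤ q := by
    obtain ⟨P, hP⟩ := (h.centralizer_isPGroup hx).exists_le_sylow
    rw [← h.card_sylow P]
    exact Subgroup.card_le_of_le hP
  have hidx : C.index ≤ cof q := by
    rw [← h.cp, Subgroup.index]
    exact Nat.card_le_card_of_injective φ hφ
  have hmul := C.card_mul_index
  rw [h.base.card_eq] at hmul
  have hC : Nat.card C = q := by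
    refine le_antisymm hle (Nat.le_of_mul_le_mul_right ?_ h.base.cof_pos)
    rw [← hmul]
    exact Nat.mul_le_mul_left _ hidx
  refine ⟨hC, fun y hy => ?_⟩
  have hidx' : C.index = cof q := Nat.eq_of_mul_eq_mul_left (by have := h.base.five; omega) (hC ▸ hmul)
  obtain ⟨u, hu⟩ := ((Nat.bijective_iff_injective_and_card φ).2 ⟨hφ, by
    rw [← Subgroup.index, hidx', ← h.cp]; rfl⟩).2 ⟨y, hy⟩
  induction u using Quotient.inductionOn with | h a => ?_
  exact ⟨a, congrArg Subtype.val hu⟩

theorem centralizer_eq [Fact p.Prime] {x : X} (hx : orderOf x = p) :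
    ∃ P : Sylow p X, (P : Subgroup X) = Subgroup.centralizer ({x} : Set X) := by
  obtain ⟨P, hP⟩ := (h.centralizer_isPGroup hx).exists_le_sylow
  exact ⟨P, (Subgroup.eq_of_le_of_card_ge hP (by rw [h.card_sylow, (h.centralizer_card hx).1])).symm⟩

theorem sylow_comm [Fact p.Prime] (P : Sylow p X) :
    ∀ a ∈ (P : Subgroup X), ∀ b ∈ (P : Subgroup X), a * b = b * a := by
  have hone : 1 < Nat.card (P : Subgroup X) := by
    rw [h.card_sylow]; have := h.base.five; omega
  haveI := Finite.one_lt_card_iff_nontrivial.1 hone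
  haveI := P.2.center_nontrivial
  obtain ⟨⟨z, hzc⟩, hz⟩ := exists_ne (1 : Subgroup.center (P : Subgroup X))
  have hz1 : (z : X) ≠ 1 := fun e => hz (Subtype.ext (Subtype.ext e))
  have hzp := h.orderOf_mem z.2 hz1
  set C := Subgroup.centralizer ({(z : X)} : Set X) with hCdef
  have hPC : (P : Subgroup X) = C := by
    refine Subgroup.eq_of_le_of_card_ge (fun a ha => ?_) (by rw [(h.centralizer_card hzp).1, h.card_sylow])
    exact Subgroup.mem_centralizer_singleton_iff.2
      (congrArg Subtype.val (Subgroup.mem_center_iff.1 hzc ⟨a, ha⟩))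
  obtain ⟨g, hg⟩ := (h.centralizer_card hzp).2 _ (show orderOf (z : X)⁻¹ = p by rw [orderOf_inv, hzp])
  have hg2 : Commute (g ^ 2) (z : X) := by
    show g ^ 2 * z = z * g ^ 2
    calc g ^ 2 * (z : X) = g * (g * z * g⁻¹) * g := by rw [sq]; group
      _ = g * (z : X)⁻¹ * g⁻¹ * g ^ 2 := by rw [hg]; group
      _ = (g * z * g⁻¹)⁻¹ * g ^ 2 := by group
      _ = z * g ^ 2 := by rw [hg, inv_inv]
  have hgne : ¬ Commute g (z : X) := fun hc => by
    have h2 : (z : X) = (z : X)⁻¹ := by rw [← hg]; rw [hc.eq, mul_inv_cancel_right]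
    have h3 : (z : X) ^ 2 = 1 := by rw [sq]; nth_rewrite 2 [h2]; exact mul_inv_cancel _
    have := Nat.le_of_dvd two_pos (hzp ▸ orderOf_dvd_of_pow_eq_one h3)
    have := h.base.prime.two_le
    exact h.base.odd (by omega)
  have heven : 2 ∣ orderOf g := by
    by_contra ho
    obtain ⟨k, hk⟩ : ∃ k, orderOf g + 1 = 2 * k := ⟨(orderOf g + 1) / 2, by omega⟩
    refine hgne ?_
    have e : g = (g ^ 2) ^ k := by rw [← pow_mul, ← hk, pow_succ, pow_orderOf_eq_one, one_mul]
    rw [e]
    exact hg2.pow_left k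
  set t := g ^ (orderOf g / 2) with ht
  have hto : orderOf t = 2 := orderOf_pow_orderOf_div (orderOf_pos g).ne' heven
  have htn : t ∈ Subgroup.normalizer ((P : Subgroup X) : Set X) := by
    refine pow_mem ?_ _
    rw [Subgroup.mem_normalizer_iff]
    intro a
    show a ∈ (P : Subgroup X) ↔ g * a * g⁻¹ ∈ (P : Subgroup X)
    rw [hPC, Subgroup.mem_centralizer_singleton_iff, Subgroup.mem_centralizer_singleton_iff]
    constructor
    · intro ha
      have hc : Commute (g * a * g⁻¹) (g * (z : X) * g⁻¹) := by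
        show g * a * g⁻¹ * (g * z * g⁻¹) = g * z * g⁻¹ * (g * a * g⁻¹)
        calc g * a * g⁻¹ * (g * z * g⁻¹) = g * (a * z) * g⁻¹ := by group
          _ = g * (z * a) * g⁻¹ := by rw [ha]
          _ = g * z * g⁻¹ * (g * a * g⁻¹) := by group
      rw [hg] at hc
      exact Commute.inv_right_iff.1 hc
    · intro ha
      have hc : Commute (g * a * g⁻¹) (g * (z : X) * g⁻¹) := by
        rw [hg]; exact Commute.inv_right ha
      have h2 : g * a * g⁻¹ * (g * z * g⁻¹) = g * z * g⁻¹ * (g * a * g⁻¹) := hc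
      refine mul_left_cancel (a := g) (mul_right_cancel (b := g⁻¹) ?_)
      calc g * (a * z) * g⁻¹ = g * a * g⁻¹ * (g * z * g⁻¹) := by group
        _ = g * z * g⁻¹ * (g * a * g⁻¹) := h2
        _ = g * (z * a) * g⁻¹ := by group
  have hnorm := Subgroup.mem_normalizer_iff.1 htn
  let φ : (P : Subgroup X) →* (P : Subgroup X) :=
    MonoidHom.mk' (fun a => ⟨t * a * t⁻¹, (hnorm a).1 a.2⟩) fun a b => Subtype.ext (by
      show t * ((a : X) * b) * t⁻¹ = t * a * t⁻¹ * (t * b * t⁻¹)
      group)
  have hfix : MonoidHom.FixedPointFree φ := by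
    intro a ha
    by_contra ha1
    have hc : Commute (a : X) t := (mul_inv_eq_iff_eq_mul.1 (congrArg Subtype.val ha)).symm
    have h2 := h.pow_eq_one_of_commute (h.orderOf_mem a.2 fun e => ha1 (Subtype.ext e)) hc
    have h3 := hto ▸ orderOf_dvd_of_pow_eq_one h2
    exact h.base.odd ((Nat.prime_dvd_prime_iff_eq Nat.prime_two h.base.prime).1 h3).symm
  have hinv : Function.Involutive φ := fun a => Subtype.ext (by
    show t * (t * a * t⁻¹) * t⁻¹ = a
    have h2 : t * t = 1 := by rw [← sq, ← hto, pow_orderOf_eq_one]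
    calc t * (t * (a : X) * t⁻¹) * t⁻¹ = (t * t) * a * (t * t)⁻¹ := by group
      _ = a := by rw [h2]; group)
  intro a ha b hb
  exact congrArg Subtype.val (hfix.commute_all_of_involutive hinv ⟨a, ha⟩ ⟨b, hb⟩).eq

theorem sylow_eq_centralizer [Fact p.Prime] (P : Sylow p X) {x : X} (hx : x ∈ (P : Subgroup X)) (h1 : x ≠ 1) :
    (P : Subgroup X) = Subgroup.centralizer ({x} : Set X) :=
  Subgroup.eq_of_le_of_card_ge (fun a ha => Subgroup.mem_centralizer_singleton_iff.2 (h.sylow_comm P a ha x hx))
    (by rw [(h.centralizer_card (h.orderOf_mem hx h1)).1, h.card_sylow])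

theorem sylow_number [Fact p.Prime] : Nat.card (Sylow p X) = q + 1 := by
  classical
  haveI := Fintype.ofFinite (Sylow p X)
  let f : (Σ P : Sylow p X, {x : (P : Subgroup X) // x ≠ 1}) → {g : X // orderOf g = p} := fun s =>
    ⟨(s.2.1 : X), h.orderOf_mem s.2.1.2 fun e => s.2.2 (Subtype.ext e)⟩
  have hf : Function.Bijective f := by
    constructor
    · rintro ⟨P, ⟨x, hx⟩, hx1⟩ ⟨Q, ⟨y, hy⟩, hy1⟩ e
      obtain rfl : x = y := congrArg Subtype.val e
      have hx1' : x ≠ 1 := fun e => hx1 (Subtype.ext e)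
      obtain rfl : P = Q := Sylow.ext ((h.sylow_eq_centralizer P hx hx1').trans (h.sylow_eq_centralizer Q hy hx1').symm)
      rfl
    · rintro ⟨g, hg⟩
      obtain ⟨P, hP⟩ := h.centralizer_eq hg
      exact ⟨⟨P, ⟨g, hP ▸ Subgroup.mem_centralizer_singleton_iff.2 rfl⟩, fun e => by
        have : g = 1 := congrArg Subtype.val e
        rw [this, orderOf_one] at hg
        exact h.base.prime.ne_one hg.symm⟩, rfl⟩
  have h1 : Nat.card {g : X // orderOf g = p} = Nat.card (Sylow p X) * (q - 1) := by
    rw [← Nat.card_congr (Equiv.ofBijective f hf), Nat.card_sigma]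
    have : ∀ P : Sylow p X, Nat.card {x : (P : Subgroup X) // x ≠ 1} = q - 1 := fun P => by
      have h2 := Nat.card_congr (Equiv.optionSubtypeNe (1 : (P : Subgroup X)))
      rw [Finite.card_option, h.card_sylow] at h2
      omega
    rw [Finset.sum_congr rfl fun P _ => this P, Finset.sum_const, Finset.card_univ, smul_eq_mul,
      Nat.card_eq_fintype_card]
  have h2 : cof q = Nat.card (Sylow p X) * (q - 1) := h.cp.symm.trans h1
  rw [cof, mul_comm] at h2
  exact (Nat.eq_of_mul_eq_mul_right (by have := h.base.five; omega) h2).symm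

theorem smul_self_of_mem [Fact p.Prime] {P : Sylow p X} {u : X} (hu : u ∈ (P : Subgroup X)) : u • P = P :=
  Sylow.smul_eq_iff_mem_normalizer.2 (Subgroup.le_normalizer hu)

/-- A Sylow subgroup is regular on the others. -/
theorem regular [Fact p.Prime] (P : Sylow p X) {Q R : Sylow p X} (hQ : Q ≠ P) (hR : R ≠ P) :
    ∃! u : (P : Subgroup X), (u : X) • Q = R := by
  classical
  let φ : ↥(P : Subgroup X) → {R : Sylow p X // R ≠ P} := fun u => ⟨(u : X) • Q, fun e => hQ (by
    exact smul_left_cancel (u : X) (e.trans (h.smul_self_of_mem u.2).symm))⟩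
  have hinj : Function.Injective φ := fun u v e => by
    have e' : (u : X) • Q = (v : X) • Q := congrArg Subtype.val e
    have h1 : ((v : X)⁻¹ * u) • Q = Q := by rw [mul_smul, e', inv_smul_smul]
    refine Subtype.ext (inv_mul_eq_one.1 ?_).symm
    by_contra hw
    have hwP : (v : X)⁻¹ * u ∈ (P : Subgroup X) := mul_mem (inv_mem v.2) u.2
    have hz : IsPGroup p (Subgroup.zpowers ((v : X)⁻¹ * u)) := P.2.to_le (Subgroup.zpowers_le.2 hwP)
    have hwQ := ((hz.inf_normalizer_sylow Q).le
      ⟨Subgroup.mem_zpowers _, Sylow.smul_eq_iff_mem_normalizer.1 h1⟩).2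
    exact hQ (Sylow.ext ((h.sylow_eq_centralizer Q hwQ hw).trans (h.sylow_eq_centralizer P hwP hw).symm))
  have hc : Nat.card (P : Subgroup X) = Nat.card {R : Sylow p X // R ≠ P} := by
    have h1 := Nat.card_congr (Equiv.optionSubtypeNe P)
    rw [Finite.card_option, h.sylow_number] at h1
    rw [h.card_sylow P]
    omega
  obtain ⟨u, hu⟩ := ((Nat.bijective_iff_injective_and_card φ).2 ⟨hinj, hc⟩).2 ⟨R, hR⟩
  exact ⟨u, congrArg Subtype.val hu, fun v hv => hinj (Subtype.ext (hv.trans (congrArg Subtype.val hu).symm))⟩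

theorem exists_pair_map [Fact p.Prime] {A B C D : Sylow p X} (hAB : A ≠ B) (hCD : C ≠ D) :
    ∃ g : X, g • A = C ∧ g • B = D := by
  obtain ⟨g, rfl⟩ := exists_smul_eq X A C
  have hB : g⁻¹ • D ≠ A := fun e => hCD (by rw [← e, smul_inv_smul])
  obtain ⟨u, hu, -⟩ := h.regular A (Ne.symm hAB) hB
  exact ⟨g * u, by rw [mul_smul, h.smul_self_of_mem u.2], by rw [mul_smul, hu, smul_inv_smul]⟩

theorem three_fixed [Fact p.Prime] {g : X} {A B C : Sylow p X} (hab : A ≠ B) (hac : A ≠ C) (hbc : B ≠ C)
    (hA : g • A = A) (hB : g • B = B) (hC : g • C = C) : g = 1 := by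
  obtain ⟨u, hu, huniq⟩ := h.regular A (Ne.symm hab) (Ne.symm hac)
  have hmem : g * u * g⁻¹ ∈ (A : Subgroup X) :=
    (Subgroup.mem_normalizer_iff.1 (Sylow.smul_eq_iff_mem_normalizer.1 hA) _).1 u.2
  have e : (⟨g * u * g⁻¹, hmem⟩ : (A : Subgroup X)) = u := huniq _ (by
    show (g * u * g⁻¹) • B = C
    rw [mul_smul, mul_smul, inv_smul_eq_iff.2 hB.symm, hu, hC])
  have e' : g * u * g⁻¹ = u := congrArg Subtype.val e
  have hu1 : (u : X) ≠ 1 := fun e0 => hbc (by rw [← hu, e0, one_smul])
  have hgA : g ∈ (A : Subgroup X) := by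
    rw [h.sylow_eq_centralizer A u.2 hu1, Subgroup.mem_centralizer_singleton_iff]
    calc g * (u : X) = g * u * g⁻¹ * g := by group
      _ = u * g := by rw [e']
  obtain ⟨v, -, hv⟩ := h.regular A (Ne.symm hab) (Ne.symm hab)
  have h1 := hv ⟨g, hgA⟩ hB
  have h2 := hv 1 (by simp)
  exact congrArg Subtype.val (h1.trans h2.symm)

theorem pair_stab_card [Fact p.Prime] {A B : Sylow p X} (hab : A ≠ B) :
    Nat.card (stabilizer X A ⊓ stabilizer X B : Subgroup X) = q - 1 := by
  classical
  let φ : ↥(A : Subgroup X) × ↥(stabilizer X A ⊓ stabilizer X B) → stabilizer X A := fun t =>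
    ⟨(t.1 : X) * t.2, mul_mem (h.smul_self_of_mem t.1.2) t.2.2.1⟩
  have hbij : Function.Bijective φ := by
    constructor
    · rintro ⟨u, g⟩ ⟨u', g'⟩ e
      have e' : (u : X) * g = (u' : X) * g' := congrArg Subtype.val e
      have hBu : (u : X) • B = (u' : X) • B := by
        have h1 := congrArg (fun t : X => t • B) e'
        simpa only [mul_smul, show (g : X) • B = B from g.2.2, show (g' : X) • B = B from g'.2.2] using h1
      have hR : (u' : X) • B ≠ A := fun eq => hab
        (smul_left_cancel (u' : X) ((h.smul_self_of_mem u'.2).trans eq.symm))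
      obtain rfl := (h.regular A (Ne.symm hab) hR).unique hBu rfl
      exact Prod.ext rfl (Subtype.ext (mul_left_cancel e'))
    · rintro ⟨g, hg⟩
      have hR : g • B ≠ A := fun e => hab (smul_left_cancel g ((show g • A = A from hg).trans e.symm))
      obtain ⟨u, hu, -⟩ := h.regular A (Ne.symm hab) hR
      refine ⟨(u, ⟨(u : X)⁻¹ * g, (stabilizer X A).mul_mem ((stabilizer X A).inv_mem (h.smul_self_of_mem u.2)) hg, ?_⟩),
        Subtype.ext (mul_inv_cancel_left _ _)⟩
      show ((u : X)⁻¹ * g) • B = B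
      rw [mul_smul, ← hu, inv_smul_smul]
  have h1 := Nat.card_congr (Equiv.ofBijective φ hbij)
  rw [Nat.card_prod, h.card_sylow A] at h1
  have h2 := (stabilizer X A).card_mul_index
  rw [MulAction.index_stabilizer_of_transitive, h.sylow_number, h.base.card_eq, ← h1, cof,
    mul_assoc] at h2
  have h5 := h.base.five
  exact Nat.eq_of_mul_eq_mul_right (show 0 < q + 1 by omega) (Nat.eq_of_mul_eq_mul_left (by omega) h2)

theorem three_trans [Fact p.Prime] : IsMultiplyPretransitive X (Sylow p X) 3 := by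
  classical
  have key : ∀ A B C A' B' C' : Sylow p X, A ≠ B → A ≠ C → B ≠ C → A' ≠ B' → A' ≠ C' → B' ≠ C' →
      ∃ g : X, g • A = A' ∧ g • B = B' ∧ g • C = C' := by
    intro A B C A' B' C' hab hac hbc hab' hac' hbc'
    obtain ⟨g, hgA, hgB⟩ := h.exists_pair_map hab hab'
    let H := (stabilizer X A' ⊓ stabilizer X B' : Subgroup X)
    let O := {R : Sylow p X // R ≠ A' ∧ R ≠ B'}
    have hC : g • C ≠ A' ∧ g • C ≠ B' :=
      ⟨fun e => hac (smul_left_cancel g (hgA.trans e.symm)), fun e => hbc (smul_left_cancel g (hgB.trans e.symm))⟩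
    let ψ : H → O := fun k => ⟨(k : X) • (g • C),
      fun e => hC.1 (smul_left_cancel (k : X) (e.trans (show (k : X) • A' = A' from k.2.1).symm)),
      fun e => hC.2 (smul_left_cancel (k : X) (e.trans (show (k : X) • B' = B' from k.2.2).symm))⟩
    have hinj : Function.Injective ψ := fun k l e => by
      have e' : (k : X) • (g • C) = (l : X) • (g • C) := congrArg Subtype.val e
      refine Subtype.ext (inv_mul_eq_one.1 (h.three_fixed (g := (l : X)⁻¹ * k) hab' hC.1.symm hC.2.symm ?_ ?_ ?_)).symm
      · rw [mul_smul, show (k : X) • A' = A' from k.2.1, inv_smul_eq_iff]; exact (show (l : X) • A' = A' from l.2.1).symm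
      · rw [mul_smul, show (k : X) • B' = B' from k.2.2, inv_smul_eq_iff]; exact (show (l : X) • B' = B' from l.2.2).symm
      · rw [mul_smul, e', inv_smul_smul]
    have hcard : Nat.card O = q - 1 := by
      haveI := Fintype.ofFinite (Sylow p X)
      rw [Nat.card_eq_fintype_card, Fintype.card_subtype,
        show (Finset.univ.filter fun R : Sylow p X => R ≠ A' ∧ R ≠ B') = (Finset.univ.erase A').erase B' by
          ext R; simp [and_comm],
        Finset.card_erase_of_mem (by simp [Ne.symm hab']), Finset.card_erase_of_mem (Finset.mem_univ _),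
        Finset.card_univ, ← Nat.card_eq_fintype_card, h.sylow_number]
      omega
    obtain ⟨k, hk⟩ := ((Nat.bijective_iff_injective_and_card ψ).2
      ⟨hinj, (h.pair_stab_card hab').trans hcard.symm⟩).2 ⟨C', hac'.symm, hbc'.symm⟩
    exact ⟨k * g, by rw [mul_smul, hgA]; exact k.2.1, by rw [mul_smul, hgB]; exact k.2.2,
      by rw [mul_smul]; exact congrArg Subtype.val hk⟩
  refine ⟨fun x y => ?_⟩
  obtain ⟨g, h0, h1, h2⟩ := key (x 0) (x 1) (x 2) (y 0) (y 1) (y 2)
    (x.injective.ne (by decide)) (x.injective.ne (by decide)) (x.injective.ne (by decide))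
    (y.injective.ne (by decide)) (y.injective.ne (by decide)) (y.injective.ne (by decide))
  refine ⟨g, Function.Embedding.ext fun i => ?_⟩
  fin_cases i <;> assumption

theorem inverted [Fact p.Prime] {A B : Sylow p X} (hab : A ≠ B) :
    ∀ k l : X, k • A = A → k • B = B → l • A = A → l • B = B → k * l = l * k := by
  classical
  haveI := Fintype.ofFinite (Sylow p X)
  haveI := Fintype.ofFinite X
  let sw : Sylow p X → Sylow p X → Finset X := fun a b => Finset.univ.filter fun g => g • a = b ∧ g • b = a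
  let iv : Sylow p X → Sylow p X → Finset X := fun a b => (sw a b).filter fun g => orderOf g = 2
  have hsw : ∀ a b : Sylow p X, a ≠ b → (sw a b).card ≤ q - 1 := by
    intro a b hne
    rcases (sw a b).eq_empty_or_nonempty with he | ⟨g₀, hg₀⟩
    · rw [he, Finset.card_empty]; exact Nat.zero_le _
    simp only [sw, Finset.mem_filter, Finset.mem_univ, true_and] at hg₀
    rw [← h.pair_stab_card hne, Nat.card_eq_fintype_card, ← Fintype.card_coe]
    refine Fintype.card_le_of_injective (fun g => ⟨g₀⁻¹ * (g : X), ?_⟩) fun g g' e => ?_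
    · have := g.2
      simp only [sw, Finset.mem_filter, Finset.mem_univ, true_and] at this
      exact ⟨show (g₀⁻¹ * (g : X)) • a = a by rw [mul_smul, this.1, inv_smul_eq_iff]; exact hg₀.1.symm,
        show (g₀⁻¹ * (g : X)) • b = b by rw [mul_smul, this.2, inv_smul_eq_iff]; exact hg₀.2.symm⟩
    · exact Subtype.ext (mul_left_cancel (congrArg Subtype.val e))
  have hconst : ∀ a b : Sylow p X, a ≠ b → (iv a b).card = (iv A B).card := by
    intro a b hne
    obtain ⟨g, rfl, rfl⟩ := h.exists_pair_map hab hne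
    refine (Finset.card_equiv (MulAut.conj g).toEquiv fun x => ?_).symm
    simp only [iv, sw, Finset.mem_filter, Finset.mem_univ, true_and, MulEquiv.toEquiv_eq_coe,
      MulEquiv.coe_toEquiv, MulEquiv.orderOf_eq]
    rw [MulAut.conj_apply, mul_smul, mul_smul, inv_smul_smul, smul_left_cancel_iff, mul_smul, mul_smul,
      inv_smul_smul, smul_left_cancel_iff]
  -- every involution moves at least `q - 1` Sylow subgroups
  have hmoved : ∀ t : X, orderOf t = 2 → q - 1 ≤ (Finset.univ.filter fun a : Sylow p X => t • a ≠ a).card := by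
    intro t ht
    have h1 := Finset.card_filter_add_card_filter_not (s := (Finset.univ : Finset (Sylow p X))) (fun a => t • a ≠ a)
    rw [Finset.card_univ, ← Nat.card_eq_fintype_card, h.sylow_number] at h1
    simp only [not_not] at h1
    have h2 : (Finset.univ.filter fun a : Sylow p X => t • a = a).card ≤ 2 := by
      by_contra hc
      obtain ⟨a, b, c, ha, hb, hc', hab', hac, hbc⟩ := Finset.two_lt_card_iff.1 (not_le.1 hc)
      simp only [Finset.mem_filter, Finset.mem_univ, true_and] at ha hb hc'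
      rw [h.three_fixed hab' hac hbc ha hb hc', orderOf_one] at ht
      exact absurd ht (by norm_num)
    omega
  set T := Finset.univ.filter fun t : X => orderOf t = 2
  set S := (Finset.univ : Finset (Sylow p X × Sylow p X)).filter fun s => s.1 ≠ s.2
  have hT : T.card = q * q := by
    rw [← h.ctwo, ocnt, Nat.card_eq_fintype_card, Fintype.card_subtype]
  have hS : S.card = (q + 1) * q := by
    have : S = (Finset.univ : Finset (Sylow p X)).offDiag := by ext s; simp [S]
    rw [this, Finset.offDiag_card, Finset.card_univ, ← Nat.card_eq_fintype_card, h.sylow_number]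
    rw [← Nat.mul_sub_one]; simp
  have hcount : ∑ t ∈ T, (Finset.univ.filter fun a : Sylow p X => t • a ≠ a).card ≤ ∑ s ∈ S, (iv s.1 s.2).card := by
    rw [← Finset.card_sigma, ← Finset.card_sigma]
    refine Finset.card_le_card_of_injOn (fun x => ⟨(x.2, x.1 • x.2), x.1⟩) ?_ ?_
    · rintro ⟨t, a⟩ hx
      simp only [T, Finset.mem_coe, Finset.mem_sigma, Finset.mem_filter, Finset.mem_univ, true_and] at hx
      simp only [S, iv, sw, Finset.mem_coe, Finset.mem_sigma, Finset.mem_filter, Finset.mem_univ, true_and]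
      refine ⟨Ne.symm hx.2, ?_, hx.1⟩
      rw [← mul_smul, ← sq, ← hx.1, pow_orderOf_eq_one, one_smul]
    · rintro ⟨t, a⟩ - ⟨t', a'⟩ - e
      simp only [Sigma.mk.injEq, Prod.mk.injEq, heq_eq_eq] at e
      obtain ⟨⟨rfl, -⟩, rfl⟩ := e
      rfl
  rw [Finset.sum_congr (s₁ := S) rfl fun s hs => hconst s.1 s.2 (Finset.mem_filter.1 hs).2, Finset.sum_const, hS,
    smul_eq_mul] at hcount
  have hlow := (Finset.sum_le_sum fun t ht => hmoved t (Finset.mem_filter.1 ht).2).trans hcount
  rw [Finset.sum_const, hT, smul_eq_mul] at hlow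
  have h5 := h.base.five
  have hI : q - 1 ≤ (iv A B).card := by
    by_contra hc
    obtain ⟨c, hc'⟩ : ∃ c, q = c + 2 := ⟨q - 2, by omega⟩
    have := Nat.mul_le_mul_left ((q + 1) * q) (show (iv A B).card ≤ c by omega)
    rw [show q - 1 = c + 1 by omega] at hlow
    subst hc'
    nlinarith
  have heq : iv A B = sw A B :=
    Finset.eq_of_subset_of_card_le (Finset.filter_subset _ _) ((hsw A B hab).trans hI)
  obtain ⟨g, hg⟩ : (iv A B).Nonempty := Finset.card_pos.1 (by omega)
  have hgo := (Finset.mem_filter.1 hg).2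
  have hg' : g • A = B ∧ g • B = A := (Finset.mem_filter.1 (Finset.mem_filter.1 hg).1).2
  have hinv : ∀ k : X, k • A = A → k • B = B → g * k * g = k⁻¹ := by
    intro k hkA hkB
    have hm : g * k ∈ iv A B := by
      rw [heq]
      simp only [sw, Finset.mem_filter, Finset.mem_univ, true_and]
      exact ⟨by rw [mul_smul, hkA, hg'.1], by rw [mul_smul, hkB, hg'.2]⟩
    have h2 : (g * k) ^ 2 = 1 := by
      rw [← (Finset.mem_filter.1 hm).2]; exact pow_orderOf_eq_one _
    rw [eq_inv_iff_mul_eq_one, ← h2, sq]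
    group
  have hgg : g * g = 1 := by rw [← sq, ← hgo, pow_orderOf_eq_one]
  intro k l hkA hkB hlA hlB
  have h1 := hinv (k * l) (by rw [mul_smul, hlA, hkA]) (by rw [mul_smul, hlB, hkB])
  have h2 : g * (k * l) * g = (g * k * g) * (g * l * g) := by
    calc g * (k * l) * g = g * k * 1 * l * g := by group
      _ = g * k * (g * g) * l * g := by rw [hgg]
      _ = _ := by group
  rw [h2, hinv k hkA hkB, hinv l hlA hlB, mul_inv_rev] at h1
  have h3 := congrArg (·⁻¹) h1
  simp only [mul_inv_rev, inv_inv] at h3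
  exact h3.symm

end Like

end H61.NsePGL
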