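import Cfsg.Agent.H26.OrderCount

/-!
Element counts in a group of order `q (q² - 1)`, `q` a power of the odd prime `p`, in which the number
of elements of every order other than `1` and `p` is divisible by `q`.
-/

set_option autoImplicit false

namespace H61.NsePGL

open H26

variable {X : Type*} [Group X]

/-- The order data. -/
structure Base (X : Type*) [Group X] (p q : ℕ) : Prop where
  prime : p.Prime
  odd : p ≠ 2
  pow : ∃ f, 0 < f ∧ q = p ^ f
  five : 5 ≤ q
  card : Nat.card X = q * ((q - 1) * (q + 1))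

/-- The cofactor `q² - 1`. -/
def cof (q : ℕ) : ℕ := (q - 1) * (q + 1)

theorem cof_succ {q : ℕ} (hq : 1 ≤ q) : cof q + 1 = q * q := by
  obtain ⟨c, rfl⟩ : ∃ c, q = c + 1 := ⟨q - 1, by omega⟩
  simp only [cof, Nat.add_sub_cancel]
  ring

namespace Base

variable {p q : ℕ} (h : Base X p q)
include h

theorem dvd_q : p ∣ q := by
  obtain ⟨f, hf, rfl⟩ := h.pow
  exact dvd_pow_self p hf.ne'

theorem cof_pos : 0 < cof q := by
  have := h.five
  exact Nat.mul_pos (by omega) (by omega)

theorem not_dvd_cof : ¬ p ∣ cof q := fun hd => by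
  have h1 : p ∣ cof q + 1 := by
    rw [cof_succ (by have := h.five; omega)]
    exact h.dvd_q.mul_right q
  exact h.prime.not_dvd_one ((Nat.dvd_add_right hd).1 h1)

theorem q_coprime : Nat.Coprime q (cof q) := by
  obtain ⟨f, -, hf⟩ := h.pow
  conv => arg 1; rw [hf]
  exact Nat.Coprime.pow_left _ (h.prime.coprime_iff_not_dvd.2 h.not_dvd_cof)

theorem card_eq : Nat.card X = q * cof q := h.card

variable [Finite X]

theorem sum_all : ∑ d ∈ (Nat.card X).divisors, ocnt X d = Nat.card X := by
  rw [← card_pow_eq_one _ Nat.card_pos.ne', Nat.card_congr (Equiv.subtypeUnivEquiv fun g => pow_card_eq_one')]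

theorem regular_count (hq : ∀ n, n ≠ 1 → n ≠ p → q ∣ ocnt X n) :
    ∃ j, q - 1 ≤ j ∧ ∑ d ∈ (cof q).divisors, ocnt X d = j * cof q := by
  obtain ⟨j, hj⟩ := dvd_sum_ocnt (G := X) h.cof_pos.ne' (dvd_refl (cof q)) (h.card_eq ▸ dvd_mul_left _ _)
  rw [mul_comm] at hj
  refine ⟨j, ?_, hj⟩
  have hd : q ∣ ∑ d ∈ (cof q).divisors.erase 1, ocnt X d := by
    refine Finset.dvd_sum fun d hd => ?_
    obtain ⟨h1, hd⟩ := Finset.mem_erase.1 hd
    exact hq d h1 fun e => h.not_dvd_cof (e ▸ Nat.dvd_of_mem_divisors hd)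
  rw [← Finset.add_sum_erase _ _ (Nat.one_mem_divisors.2 h.cof_pos.ne'), ocnt_one] at hj
  obtain ⟨a, ha⟩ := hd
  rw [ha] at hj
  have h2 : (1 + j) + q * a = q * (q * j) := by
    calc (1 + j) + q * a = j + (1 + q * a) := by ring
      _ = j + j * cof q := by rw [hj]
      _ = j * (cof q + 1) := by ring
      _ = q * (q * j) := by rw [cof_succ (by have := h.five; omega)]; ring
  have h3 : q ∣ 1 + j := (Nat.dvd_add_left (dvd_mul_right q a)).1 (h2 ▸ dvd_mul_right q _)
  have := Nat.le_of_dvd (by omega) h3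
  omega

/-- If there are `q² - 1` elements of order `p`, every element of order divisible by `p` has order `p`. -/
theorem single (hq : ∀ n, n ≠ 1 → n ≠ p → q ∣ ocnt X n) (hp : ocnt X p = cof q) (g : X)
    (hg : p ∣ orderOf g) : orderOf g = p := by
  by_contra hne
  obtain ⟨j, hj, hR⟩ := h.regular_count hq
  have hpX : p ∣ Nat.card X := h.card_eq ▸ h.dvd_q.mul_right _
  have hdisj : Disjoint (cof q).divisors {p, orderOf g} := by
    rw [Finset.disjoint_left]
    intro d hd hd'
    simp only [Finset.mem_insert, Finset.mem_singleton] at hd'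
    have := Nat.dvd_of_mem_divisors hd
    rcases hd' with rfl | rfl
    · exact h.not_dvd_cof this
    · exact h.not_dvd_cof (hg.trans this)
  have hsub : (cof q).divisors ∪ {p, orderOf g} ⊆ (Nat.card X).divisors := by
    intro d hd
    simp only [Finset.mem_union, Finset.mem_insert, Finset.mem_singleton] at hd
    refine Nat.mem_divisors.2 ⟨?_, Nat.card_pos.ne'⟩
    rcases hd with hd | rfl | rfl
    · exact (Nat.dvd_of_mem_divisors hd).trans (h.card_eq ▸ dvd_mul_left _ _)
    · exact hpX
    · exact orderOf_dvd_natCard g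
  have h1 := Finset.sum_le_sum_of_subset (f := ocnt X) hsub
  rw [sum_all h, Finset.sum_union hdisj, Finset.sum_pair (Ne.symm hne), hR, hp, h.card_eq] at h1
  have h2 : 0 < ocnt X (orderOf g) := ocnt_pos_iff.2 ⟨g, rfl⟩
  have h3 : q * cof q ≤ j * cof q + cof q := by
    calc q * cof q ≤ (j + 1) * cof q := Nat.mul_le_mul_right _ (by omega)
      _ = j * cof q + cof q := by ring
  omega

/-- If every element of order divisible by `p` has order `p`, there are `q² - 1` of them. -/
theorem count_p (hq : ∀ n, n ≠ 1 → n ≠ p → q ∣ ocnt X n) (hs : ∀ g : X, p ∣ orderOf g → orderOf g = p) :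
    ocnt X p = cof q := by
  haveI := Fact.mk h.prime
  obtain ⟨j, hj, hR⟩ := h.regular_count hq
  have hpX : p ∣ Nat.card X := h.card_eq ▸ h.dvd_q.mul_right _
  have hsub : insert p (cof q).divisors ⊆ (Nat.card X).divisors := by
    intro d hd
    refine Nat.mem_divisors.2 ⟨?_, Nat.card_pos.ne'⟩
    rcases Finset.mem_insert.1 hd with rfl | hd
    · exact hpX
    · exact (Nat.dvd_of_mem_divisors hd).trans (h.card_eq ▸ dvd_mul_left _ _)
  have h1 := Finset.sum_subset (f := ocnt X) hsub fun d hd hd' => by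
    rw [Finset.mem_insert] at hd'
    by_contra hne
    obtain ⟨g, rfl⟩ := ocnt_pos_iff.1 (Nat.pos_of_ne_zero hne)
    have hpd : ¬ p ∣ orderOf g := fun e => hd' (Or.inl (hs g e))
    refine hd' (Or.inr (Nat.mem_divisors.2 ⟨?_, h.cof_pos.ne'⟩))
    obtain ⟨f, -, hf⟩ := h.pow
    refine (Nat.Coprime.pow_right f (h.prime.coprime_iff_not_dvd.2 hpd).symm).dvd_of_dvd_mul_left ?_
    rw [← hf, ← h.card_eq]
    exact orderOf_dvd_natCard g
  rw [sum_all h, Finset.sum_insert (fun e => h.not_dvd_cof (Nat.dvd_of_mem_divisors e)), hR, h.card_eq] at h1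
  obtain ⟨x, hx⟩ := exists_prime_orderOf_dvd_card' (G := X) p hpX
  have h2 : 0 < ocnt X p := ocnt_pos_iff.2 ⟨x, hx⟩
  have h3 : j < q := by
    by_contra hc
    have := Nat.mul_le_mul_right (cof q) (not_lt.1 hc)
    omega
  have h4 : j = q - 1 := by omega
  subst h4
  have h5 : q * cof q = (q - 1) * cof q + cof q := by
    rw [← Nat.succ_mul, Nat.succ_eq_add_one, Nat.sub_add_cancel (by have := h.five; omega)]
  omega

end Base

/-- A semiregular action: the group order divides the number of points. -/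
theorem semiregular_dvd {H α : Type*} [Group H] [MulAction H α]
    (hfree : ∀ a : α, MulAction.stabilizer H a = ⊥) : Nat.card H ∣ Nat.card α := by
  have e : ∀ ω : Quotient (MulAction.orbitRel H α), H ⧸ MulAction.stabilizer H ω.out ≃ H := fun ω =>
    ((Subgroup.quotientEquivOfEq (hfree ω.out)).trans (QuotientGroup.quotientBot (G := H)).toEquiv)
  rw [Nat.card_congr ((MulAction.selfEquivSigmaOrbitsQuotientStabilizer H α).trans
    ((Equiv.sigmaCongrRight e).trans (Equiv.sigmaEquivProd _ H))), Nat.card_prod]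
  exact dvd_mul_left _ _

/-- An orbit-freeness criterion: a subgroup commuting with no element of order `n` divides their number. -/
theorem card_dvd_ocnt [Finite X] (U : Subgroup X) {n : ℕ}
    (hfree : ∀ u ∈ U, u ≠ 1 → ∀ g : X, orderOf g = n → ¬ Commute u g) : Nat.card U ∣ ocnt X n := by
  let act : MulAction U {x : X // orderOf x = n} :=
    { smul := fun g x => ⟨(g : X) * x.1 * (g : X)⁻¹, by
        rw [← MulAut.conj_apply, MulEquiv.orderOf_eq]; exact x.2⟩
      one_smul := fun x => Subtype.ext (show ((1 : U) : X) * x.1 * _ = _ by simp)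
      mul_smul := fun g h x => Subtype.ext
        (show ((g * h : U) : X) * x.1 * ((g * h : U) : X)⁻¹ =
          (g : X) * ((h : X) * x.1 * (h : X)⁻¹) * (g : X)⁻¹ by push_cast; group) }
  have hst : ∀ x : {x : X // orderOf x = n}, MulAction.stabilizer U x = ⊥ := by
    intro x
    refine (Subgroup.eq_bot_iff_forall _).2 fun u hu => ?_
    by_contra h1
    have h2 : (u : X) * x.1 * (u : X)⁻¹ = x.1 :=
      congrArg Subtype.val (MulAction.mem_stabilizer_iff.1 hu)
    exact hfree u u.2 (fun e => h1 (Subtype.ext e)) x.1 x.2 (mul_inv_eq_iff_eq_mul.1 h2)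
  exact semiregular_dvd hst

end H61.NsePGL
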