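import Cfsg.Agent.H61.NsePGL.Model
import Cfsg.Agent.H61.NsePGL.Action
import Cfsg.Agent.H28.ThreeValues
import Cfsg.Agent.H59.SharpThree
import Cfsg.Agent.H39.Dickson

/-!
`PGL₂(q)`, `q` odd, is determined by its order and its set of same-order element counts.
-/

set_option autoImplicit false

namespace H61.NsePGL

open H26

universe u v

/-- The set of counts. -/
theorem like_of_nse {X : Type v} [Group X] [Finite X] {p q : ℕ} (hB : Base X p q)
    (htwo : ∃ n, ocnt X n = q * q)
    (hval : ∀ n, ocnt X n = 1 ∨ ocnt X n = cof q ∨ q ∣ ocnt X n) : Like X p q := by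
  classical
  have hodd : Odd q := by
    obtain ⟨f, -, rfl⟩ := hB.pow
    exact (hB.prime.odd_of_ne_two hB.odd).pow
  have h5 := hB.five
  have hqq : 25 ≤ q * q := Nat.mul_le_mul h5 h5
  have hcof : 24 ≤ cof q := Nat.mul_le_mul (show 4 ≤ q - 1 by omega) (show 6 ≤ q + 1 by omega)
  have hc2 : ocnt X 2 = q * q := by
    obtain ⟨n, hn⟩ := htwo
    have htot : n.totient ∣ q * q := hn ▸ H28.ThreeValues.totient_dvd_cnt (G := X) n
    have hn2 : n ≤ 2 := by
      by_contra hc
      exact (Nat.not_even_iff_odd.2 (Odd.of_dvd_nat (hodd.mul hodd) htot)) (Nat.totient_even (by omega))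
    rcases n with _ | _ | _ | n
    · exfalso
      obtain ⟨g, hg⟩ := ocnt_pos_iff.1 (show 0 < ocnt X 0 by omega)
      exact (orderOf_pos g).ne' hg
    · rw [zero_add, ocnt_one] at hn; omega
    · exact hn
    · omega
  have hpX : p ∣ Nat.card X := hB.card_eq ▸ hB.dvd_q.mul_right _
  have hcp : ocnt X p = cof q := by
    have h1 := dvd_one_add hB.prime hpX
    rcases hval p with e | e | e
    · rw [e] at h1
      exact absurd (Nat.le_antisymm (Nat.le_of_dvd two_pos h1) hB.prime.two_le) hB.odd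
    · exact e
    · exact absurd ((Nat.dvd_add_left (hB.dvd_q.trans e)).1 h1) hB.prime.not_dvd_one
  have hne : ∀ n, n ≠ 1 → n ≠ p → q ∣ ocnt X n ∨ ocnt X n = cof q := by
    intro n hn1 hnp
    rcases hval n with e | e | e
    · exfalso
      have htot : n.totient ∣ 1 := e ▸ H28.ThreeValues.totient_dvd_cnt (G := X) n
      have hn2 : n = 2 := by
        rcases Nat.totient_eq_one_iff.1 (Nat.dvd_one.1 htot) with h | h
        · exact absurd h hn1
        · exact h
      rw [hn2, hc2] at e; omega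
    · exact Or.inr e
    · exact Or.inl e
  refine ⟨hB, fun n hn1 hnp => ?_, hcp, hc2⟩
  by_contra hq
  -- the number of orders with `q² - 1` elements
  set D := (Nat.card X).divisors
  set K := ((D.erase 1).erase p).filter fun m => ¬ q ∣ ocnt X m
  have hsum := Base.sum_all hB
  have h1D : 1 ∈ D := Nat.one_mem_divisors.2 Nat.card_pos.ne'
  have hpD : p ∈ D.erase 1 :=
    Finset.mem_erase.2 ⟨hB.prime.ne_one, Nat.mem_divisors.2 ⟨hpX, Nat.card_pos.ne'⟩⟩
  rw [← Finset.add_sum_erase _ _ h1D, ← Finset.add_sum_erase _ _ hpD, ocnt_one, hcp,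
    ← Finset.sum_filter_add_sum_filter_not _ (fun m => ¬ q ∣ ocnt X m)] at hsum
  have hK : ∑ m ∈ K, ocnt X m = K.card * cof q := by
    rw [← smul_eq_mul, ← Finset.sum_const]
    refine Finset.sum_congr rfl fun m hm => ?_
    obtain ⟨hm, hmq⟩ := Finset.mem_filter.1 hm
    obtain ⟨hmp, hm⟩ := Finset.mem_erase.1 hm
    exact (hne m (Finset.mem_erase.1 hm).1 hmp).resolve_left hmq
  obtain ⟨a, ha⟩ : q ∣ ∑ m ∈ ((D.erase 1).erase p).filter (fun m => ¬ ¬ q ∣ ocnt X m), ocnt X m :=
    Finset.dvd_sum fun m hm => not_not.1 (Finset.mem_filter.1 hm).2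
  rw [hK, ha, hB.card_eq] at hsum
  have hn : n ∈ K := by
    refine Finset.mem_filter.2 ⟨Finset.mem_erase.2 ⟨hnp, Finset.mem_erase.2 ⟨hn1, ?_⟩⟩, hq⟩
    obtain ⟨g, rfl⟩ := ocnt_pos_iff.1 (Nat.pos_of_ne_zero fun e => hq (e ▸ dvd_zero q))
    exact Nat.mem_divisors.2 ⟨orderOf_dvd_natCard g, Nat.card_pos.ne'⟩
  have hkpos : 0 < K.card := Finset.card_pos.2 ⟨n, hn⟩
  have hdvd : q ∣ K.card * cof q := by
    have h2 := cof_succ (show 1 ≤ q by omega)
    have h3 : K.card * cof q + q * (q + a) = q * cof q := by rw [mul_add, ← h2]; linarith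
    exact (Nat.dvd_add_left (dvd_mul_right q _)).1 (h3 ▸ dvd_mul_right q _)
  have hkq := Nat.le_of_dvd hkpos (hB.q_coprime.dvd_of_dvd_mul_right hdvd)
  have := Nat.mul_le_mul_right (cof q) hkq
  omega

theorem main {F : Type u} [Field F] [Fintype F] (hodd : Odd (Fintype.card F)) (h3 : 3 < Fintype.card F)
    {X : Type v} [Group X] [Finite X] (hcard : Nat.card X = Nat.card (PG F))
    (hnse : {c : ℕ | 0 < c ∧ ∃ n : ℕ, c = Nat.card {g : X // orderOf g = n}} =
      {c : ℕ | 0 < c ∧ ∃ n : ℕ, c = Nat.card {g : PG F // orderOf g = n}}) :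
    Nonempty (X ≃* PG F) := by
  classical
  obtain ⟨p, hp⟩ := CharP.exists F
  set q := Fintype.card F with hq
  have hP := base (F := F) (p := p) hodd h3
  haveI := Fact.mk hP.prime
  have hBX : Base X p q := ⟨hP.prime, hP.odd, hP.pow, hP.five, hcard.trans hP.card⟩
  have hdvd := model_dvd (F := F) (p := p) hodd h3
  have hcp : ocnt (PG F) p = cof q := hP.count_p hdvd (model_single hodd h3)
  have hval : ∀ n, ocnt X n = 1 ∨ ocnt X n = cof q ∨ q ∣ ocnt X n := by
    intro n
    rcases Nat.eq_zero_or_pos (ocnt X n) with e | e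
    · exact Or.inr (Or.inr (e ▸ dvd_zero q))
    obtain ⟨-, m, hm⟩ := hnse.le (show ocnt X n ∈ _ from ⟨e, n, rfl⟩)
    change ocnt X n = ocnt (PG F) m at hm
    by_cases h1 : m = 1
    · left; rw [hm, h1, ocnt_one]
    by_cases h2 : m = p
    · right; left; rw [hm, h2, hcp]
    · right; right; rw [hm]; exact hdvd m h1 h2
  have htwo : ∃ n, ocnt X n = q * q := by
    have h2 := model_two (F := F) hodd h3
    obtain ⟨-, n, hn⟩ := hnse.ge (show q * q ∈ _ from ⟨by positivity, 2, h2.symm⟩)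
    exact ⟨n, hn.symm⟩
  have hL := like_of_nse hBX htwo hval
  haveI := Fintype.ofFinite (Sylow p X)
  have hcardS : Fintype.card (Sylow p X) = q + 1 := by
    rw [← Nat.card_eq_fintype_card]; exact hL.sylow_number
  obtain ⟨K, fK, ftK, hK, ⟨e⟩⟩ := H59.sharp_three_PGL (G := X) (X := Sylow p X) (by omega)
    hL.three_trans (fun g a b c hab hac hbc ha hb hc => hL.three_fixed hab hac hbc ha hb hc)
    (fun w o ho g h hgw hgo hhw hho => hL.inverted (Ne.symm ho) g h hgw hgo hhw hho)
  have e' : K ≃+* F := FiniteField.ringEquivOfCardEq (by omega)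
  exact ⟨e.trans (H39.pglCongr e')⟩

end H61.NsePGL
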