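import Cfsg.Agent.H61.NsePGL.Count
import Cfsg.Agent.H37.Card
import Cfsg.Agent.H64.PGL2Spectrum
import Mathlib.LinearAlgebra.Matrix.GeneralLinearGroup.Projective
import Mathlib.LinearAlgebra.Matrix.GeneralLinearGroup.FinTwo

/-!
Element counts in `PGL₂(q)`, `q` odd.
-/

set_option autoImplicit false

namespace H61.NsePGL

open Matrix H26

universe u

variable {F : Type u} [Field F]

/-- The model group. -/
abbrev PG (F : Type u) [Field F] : Type u := GL (Fin 2) F ⧸ Subgroup.center (GL (Fin 2) F)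

/-- The image of a transvection. -/
noncomputable def uEl (t : F) : PG F := QuotientGroup.mk (GeneralLinearGroup.upperRightHom t)

theorem uEl_add (a b : F) : uEl (a + b) = uEl a * uEl b := by
  rw [uEl, AddChar.map_add_eq_mul]; rfl

theorem uEl_zero : uEl (0 : F) = 1 := by
  rw [uEl, AddChar.map_zero_eq_one]; rfl

theorem center_iff (A : GL (Fin 2) F) : A ∈ Subgroup.center (GL (Fin 2) F) ↔
    (A : Matrix (Fin 2) (Fin 2) F) 0 1 = 0 ∧ (A : Matrix (Fin 2) (Fin 2) F) 1 0 = 0 ∧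
      (A : Matrix (Fin 2) (Fin 2) F) 0 0 = (A : Matrix (Fin 2) (Fin 2) F) 1 1 := by
  rw [H64.gl2_mem_center_iff]
  constructor
  · rintro ⟨c, hc⟩; rw [hc]; simp
  · rintro ⟨h1, h2, h3⟩
    exact ⟨(A : Matrix (Fin 2) (Fin 2) F) 0 0, by ext i j; fin_cases i <;> fin_cases j <;> simp [h1, h2, h3]⟩

theorem uEl_eq_one {t : F} (h : uEl t = 1) : t = 0 := by
  rw [uEl, QuotientGroup.eq_one_iff, center_iff] at h
  simpa using h.1

/-- The unipotent subgroup. -/
noncomputable def uSub (F : Type u) [Field F] : Subgroup (PG F) where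
  carrier := Set.range uEl
  one_mem' := ⟨0, uEl_zero⟩
  mul_mem' := by
    rintro _ _ ⟨a, rfl⟩ ⟨b, rfl⟩
    exact ⟨a + b, uEl_add a b⟩
  inv_mem' := by
    rintro _ ⟨a, rfl⟩
    exact ⟨-a, eq_inv_of_mul_eq_one_left (by rw [← uEl_add, neg_add_cancel, uEl_zero])⟩

theorem card_uSub [Fintype F] : Nat.card (uSub F) = Fintype.card F := by
  rw [← Nat.card_eq_fintype_card]
  refine (Nat.card_congr (Equiv.ofBijective (fun t : F => (⟨uEl t, t, rfl⟩ : uSub F)) ⟨fun a b e => ?_, ?_⟩)).symm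
  · have e' : uEl a = uEl b := congrArg Subtype.val e
    refine sub_eq_zero.1 (uEl_eq_one ?_)
    have h := uEl_add (a - b) b
    rw [sub_add_cancel, e'] at h
    exact mul_eq_right.1 h.symm
  · rintro ⟨_, t, rfl⟩; exact ⟨t, rfl⟩

theorem mem_of_commute {t : F} (ht : t ≠ 0) {g : PG F} (hc : Commute g (uEl t)) : g ∈ uSub F := by
  obtain ⟨A, rfl⟩ := QuotientGroup.mk_surjective g
  set T : GL (Fin 2) F := GeneralLinearGroup.upperRightHom t
  have hz : (T * A)⁻¹ * (A * T) ∈ Subgroup.center (GL (Fin 2) F) := QuotientGroup.eq.1 hc.eq.symm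
  obtain ⟨l, hl⟩ := (H64.gl2_mem_center_iff _).1 hz
  have hAT : (A * T : GL (Fin 2) F) = (T * A) * ((T * A)⁻¹ * (A * T)) := by group
  have hM : (A : Matrix (Fin 2) (Fin 2) F) * (T : Matrix (Fin 2) (Fin 2) F) =
      l • ((T : Matrix (Fin 2) (Fin 2) F) * (A : Matrix (Fin 2) (Fin 2) F)) := by
    have h := congrArg (fun u : GL (Fin 2) F => (u : Matrix (Fin 2) (Fin 2) F)) hAT
    simp only [Units.val_mul] at h hl
    rw [h, hl, Matrix.mul_smul, Matrix.mul_one]
  have hdet : (A : Matrix (Fin 2) (Fin 2) F).det ≠ 0 :=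
    ((Matrix.isUnit_iff_isUnit_det _).1 A.isUnit).ne_zero
  rw [Matrix.det_fin_two] at hdet
  obtain ⟨a, ha⟩ : ∃ a, a = (A : Matrix (Fin 2) (Fin 2) F) 0 0 := ⟨_, rfl⟩
  obtain ⟨b, hb⟩ : ∃ b, b = (A : Matrix (Fin 2) (Fin 2) F) 0 1 := ⟨_, rfl⟩
  obtain ⟨c, hcc⟩ : ∃ c, c = (A : Matrix (Fin 2) (Fin 2) F) 1 0 := ⟨_, rfl⟩
  obtain ⟨d, hd⟩ : ∃ d, d = (A : Matrix (Fin 2) (Fin 2) F) 1 1 := ⟨_, rfl⟩
  rw [← ha, ← hb, ← hcc, ← hd] at hdet
  rw [show (T : Matrix (Fin 2) (Fin 2) F) = !![1, t; 0, 1] from rfl,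
    Matrix.eta_fin_two (A : Matrix (Fin 2) (Fin 2) F), ← ha, ← hb, ← hcc, ← hd, Matrix.mul_fin_two,
    Matrix.mul_fin_two] at hM
  have e00 : a = l * (a + t * c) := by
    simpa [T, Matrix.mul_apply, Fin.sum_univ_two, ← ha, ← hb, ← hcc, ← hd] using congrFun (congrFun hM 0) 0
  have e10 : c = l * c := by
    simpa [T, Matrix.mul_apply, Fin.sum_univ_two, ← ha, ← hb, ← hcc, ← hd] using congrFun (congrFun hM 1) 0
  have e01 : a * t + b = l * (b + t * d) := by
    simpa [T, Matrix.mul_apply, Fin.sum_univ_two, ← ha, ← hb, ← hcc, ← hd] using congrFun (congrFun hM 0) 1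
  have hc0 : c = 0 := by
    by_contra hne
    have hl1 : l = 1 := mul_right_cancel₀ hne (by rw [one_mul]; exact e10.symm)
    rw [hl1, one_mul] at e00
    exact mul_ne_zero ht hne (by linear_combination -e00)
  have ha0 : a ≠ 0 := fun e => hdet (by rw [e, hc0]; ring)
  have hl1 : l = 1 := by
    rw [hc0, mul_zero, add_zero] at e00
    exact mul_right_cancel₀ ha0 (by rw [one_mul]; exact e00.symm)
  have had : a = d := by
    rw [hl1, one_mul] at e01
    exact mul_right_cancel₀ ht (by linear_combination e01)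
  refine ⟨b / a, ?_⟩
  rw [uEl, QuotientGroup.eq, center_iff]
  simp only [Units.val_mul]
  have hinv : ((GeneralLinearGroup.upperRightHom (b / a))⁻¹ : GL (Fin 2) F).val = !![1, -(b / a); 0, 1] := rfl
  rw [hinv]
  simp [Matrix.mul_apply, Fin.sum_univ_two, ← ha, ← hb, ← hcc, ← hd, hc0, had]
  field_simp [had ▸ ha0]
  ring

variable [Fintype F]

theorem base {p : ℕ} [CharP F p] (hodd : Odd (Fintype.card F)) (h3 : 3 < Fintype.card F) :
    Base (PG F) p (Fintype.card F) := by
  obtain ⟨n, hp, hn⟩ := FiniteField.card F p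
  set q := Fintype.card F
  refine ⟨hp, ?_, ⟨n, n.pos, hn⟩, ?_, ?_⟩
  · rintro rfl
    rw [hn, Nat.odd_pow_iff n.ne_zero] at hodd
    exact absurd hodd (by decide)
  · obtain ⟨c, hc⟩ := hodd; omega
  · have h1 := H37.card_SL_fin (F := F) 2 (by norm_num)
    rw [← H37.card_PGL_eq_card_SL, Nat.card_eq_fintype_card (α := F), Fin.prod_univ_two] at h1
    refine Nat.eq_of_mul_eq_mul_left (show 0 < q - 1 by omega) (h1.trans ?_)
    simp only [Fin.val_zero, Fin.val_one, pow_zero, pow_one]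
    obtain ⟨c, hc⟩ : ∃ c, q = c + 1 := ⟨q - 1, by omega⟩
    simp only [q] at hc ⊢
    rw [hc, show (c + 1) ^ 2 - (c + 1) = (c + 1) * c by rw [sq, ← Nat.mul_sub_one]; rfl,
      show (c + 1) ^ 2 - 1 = c * (c + 2) by rw [show (c + 1) ^ 2 = c * (c + 2) + 1 by ring]; rfl,
      show c + 1 - 1 = c from rfl]
    ring

theorem uEl_pow_p {p : ℕ} [CharP F p] (t : F) : uEl t ^ p = 1 := by
  rw [uEl, ← QuotientGroup.mk_pow, ← AddChar.map_nsmul_eq_pow, nsmul_eq_mul, CharP.cast_eq_zero, zero_mul,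
    AddChar.map_zero_eq_one]
  rfl

theorem model_single {p : ℕ} [CharP F p] (hodd : Odd (Fintype.card F)) (h3 : 3 < Fintype.card F)
    (g : PG F) (hg : p ∣ orderOf g) : orderOf g = p := by
  have hB := base (F := F) (p := p) hodd h3
  haveI := Fact.mk hB.prime
  obtain ⟨f, hf, hqf⟩ := hB.pow
  set x := g ^ (orderOf g / p)
  have hx : orderOf x = p := orderOf_pow_orderOf_div (orderOf_pos g).ne' hg
  have hU : Nat.card (uSub F) = p ^ (Nat.card (PG F)).factorization p := by
    rw [card_uSub, hB.card_eq, Nat.factorization_mul (by omega) hB.cof_pos.ne',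
      Finsupp.add_apply, Nat.factorization_eq_zero_of_not_dvd hB.not_dvd_cof, add_zero]
    rw [hqf, hB.prime.factorization_pow, Finsupp.single_eq_same]
  let P : Sylow p (PG F) := Sylow.ofCard (uSub F) hU
  have hzp : IsPGroup p (Subgroup.zpowers x) := IsPGroup.of_card (n := 1) (by rw [Nat.card_zpowers, hx, pow_one])
  obtain ⟨Q, hQ⟩ := hzp.exists_le_sylow
  obtain ⟨k, hk⟩ := MulAction.exists_smul_eq (PG F) Q P
  have hxU : k * x * k⁻¹ ∈ uSub F := by
    show k * x * k⁻¹ ∈ (P : Subgroup (PG F))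
    rw [← hk]
    exact ⟨x, hQ (Subgroup.mem_zpowers x), rfl⟩
  obtain ⟨t, ht⟩ := hxU
  have ht0 : t ≠ 0 := fun e => by
    rw [e, uEl_zero] at ht
    have : x = 1 := conj_eq_one_iff.1 ht.symm
    rw [this, orderOf_one] at hx
    exact hB.prime.ne_one hx.symm
  have hc : Commute (k * g * k⁻¹) (uEl t) := by
    rw [ht]
    have := (Commute.refl g).pow_right (orderOf g / p)
    show k * g * k⁻¹ * (k * x * k⁻¹) = k * x * k⁻¹ * (k * g * k⁻¹)
    calc k * g * k⁻¹ * (k * x * k⁻¹) = k * (g * x) * k⁻¹ := by group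
      _ = k * (x * g) * k⁻¹ := by rw [this.eq]
      _ = k * x * k⁻¹ * (k * g * k⁻¹) := by group
  obtain ⟨s, hs⟩ := mem_of_commute ht0 hc
  have hgp : g ^ p = 1 := by
    have h1 := uEl_pow_p (p := p) s
    rw [hs, conj_pow, conj_eq_one_iff] at h1
    exact h1
  exact Nat.dvd_antisymm (orderOf_dvd_of_pow_eq_one hgp) hg

theorem model_dvd {p : ℕ} [CharP F p] (hodd : Odd (Fintype.card F)) (h3 : 3 < Fintype.card F) (n : ℕ)
    (h1 : n ≠ 1) (hp : n ≠ p) : Fintype.card F ∣ ocnt (PG F) n := by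
  haveI := Fact.mk (base (F := F) (p := p) hodd h3).prime
  rw [← card_uSub]
  refine card_dvd_ocnt _ ?_
  rintro _ ⟨t, rfl⟩ hne g hg hc
  obtain ⟨s, rfl⟩ := mem_of_commute (fun e => hne (by rw [e, uEl_zero])) hc.symm
  rcases (Nat.dvd_prime Fact.out).1 (orderOf_dvd_of_pow_eq_one (uEl_pow_p (p := p) s)) with e | e
  · exact h1 (hg.symm.trans e)
  · exact hp (hg.symm.trans e)

theorem invol_iff (hodd : Odd (Fintype.card F)) (A : GL (Fin 2) F) :
    orderOf (QuotientGroup.mk A : PG F) = 2 ↔ (A : Matrix (Fin 2) (Fin 2) F).trace = 0 := by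
  have h2 : (2 : F) ≠ 0 := by
    intro h
    haveI : CharP F (ringChar F) := ringChar.charP F
    have hr : ringChar F = 2 := by
      have h' : ((2 : ℕ) : F) = 0 := by exact_mod_cast h
      rcases (Nat.dvd_prime Nat.prime_two).1 ((CharP.cast_eq_zero_iff F (ringChar F) 2).1 h') with e | e
      · exact absurd e (CharP.ringChar_ne_one)
      · exact e
    obtain ⟨n, -, hn⟩ := FiniteField.card F (ringChar F)
    rw [hn, hr, Nat.odd_pow_iff n.ne_zero] at hodd
    exact absurd hodd (by decide)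
  have hdet : (A : Matrix (Fin 2) (Fin 2) F).det ≠ 0 := ((Matrix.isUnit_iff_isUnit_det _).1 A.isUnit).ne_zero
  rw [orderOf_eq_prime_iff, ← QuotientGroup.mk_pow, QuotientGroup.eq_one_iff, ne_eq, QuotientGroup.eq_one_iff,
    center_iff, center_iff, Units.val_pow_eq_pow_val, H64.mat2_sq_eq, Matrix.trace_fin_two]
  rw [Matrix.det_fin_two] at hdet
  obtain ⟨a, ha⟩ : ∃ a, a = (A : Matrix (Fin 2) (Fin 2) F) 0 0 := ⟨_, rfl⟩
  obtain ⟨b, hb⟩ : ∃ b, b = (A : Matrix (Fin 2) (Fin 2) F) 0 1 := ⟨_, rfl⟩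
  obtain ⟨c, hc⟩ : ∃ c, c = (A : Matrix (Fin 2) (Fin 2) F) 1 0 := ⟨_, rfl⟩
  obtain ⟨d, hd⟩ : ∃ d, d = (A : Matrix (Fin 2) (Fin 2) F) 1 1 := ⟨_, rfl⟩
  rw [← ha, ← hb, ← hc, ← hd] at hdet ⊢
  simp [← ha, ← hb, ← hc, ← hd]
  constructor
  · rintro ⟨⟨e1, e2, e3⟩, hne⟩
    by_contra ht
    exact hne (e1.resolve_left ht) (e2.resolve_left ht) (e3.resolve_right ht)
  · intro ht
    refine ⟨⟨Or.inl ht, Or.inl ht, Or.inr ht⟩, fun hb' hc' had => hdet ?_⟩
    have : a = 0 := by
      rcases mul_eq_zero.1 (show (2 : F) * a = 0 by linear_combination ht + had) with e | e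
      · exact absurd e h2
      · exact e
    rw [this, hb']; ring

/-- Matrices of trace zero and determinant zero. -/
noncomputable def nilEquiv : {v : F × F × F // v.1 * v.1 + v.2.1 * v.2.2 = 0} ≃ F × F where
  toFun v := letI := Classical.decEq F; (if v.1.2.1 = 0 then v.1.2.2 else v.1.1, v.1.2.1)
  invFun w := letI := Classical.decEq F;
    ⟨if w.2 = 0 then (0, 0, w.1) else (w.1, w.2, -(w.1 * w.1) / w.2), by
      split_ifs with h
      · simp
      · simp only; field_simp; ring⟩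
  left_inv := by
    rintro ⟨⟨a, b, c⟩, hv⟩
    refine Subtype.ext ?_
    simp only at hv ⊢
    by_cases hb : b = 0
    · subst hb
      simp at hv
      simp [hv]
    · simp only [hb, if_false]
      refine Prod.ext rfl (Prod.ext rfl ?_)
      show -(a * a) / b = c
      field_simp
      linear_combination -hv
  right_inv := by
    rintro ⟨s, b⟩
    by_cases hb : b = 0
    · subst hb; simp
    · simp [hb]

theorem card_trace_zero : Nat.card {A : GL (Fin 2) F // (A : Matrix (Fin 2) (Fin 2) F).trace = 0} =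
    Fintype.card F * Fintype.card F * (Fintype.card F - 1) := by
  classical
  have e : {A : GL (Fin 2) F // (A : Matrix (Fin 2) (Fin 2) F).trace = 0} ≃
      {v : F × F × F // ¬ v.1 * v.1 + v.2.1 * v.2.2 = 0} :=
    { toFun := fun A => ⟨(A.1.1 0 0, A.1.1 0 1, A.1.1 1 0), fun h => by
        have hdet := ((Matrix.isUnit_iff_isUnit_det _).1 A.1.isUnit).ne_zero
        have ht := A.2
        rw [Matrix.trace_fin_two] at ht
        rw [Matrix.det_fin_two] at hdet
        exact hdet (by linear_combination A.1.1 0 0 * ht - h)⟩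
      invFun := fun v => ⟨GeneralLinearGroup.mkOfDetNeZero !![v.1.1, v.1.2.1; v.1.2.2, -v.1.1] (by
        rw [Matrix.det_fin_two]; simp only [Matrix.of_apply, Matrix.cons_val', Matrix.cons_val_zero,
          Matrix.cons_val_one, Matrix.cons_val_fin_one]
        intro h; exact v.2 (by linear_combination -h)),
        by simp [Matrix.trace_fin_two]⟩
      left_inv := fun A => by
        refine Subtype.ext (Units.ext ?_)
        have ht := A.2
        rw [Matrix.trace_fin_two] at ht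
        ext i j; fin_cases i <;> fin_cases j <;> simp
        linear_combination -ht
      right_inv := fun v => by simp }
  rw [Nat.card_congr e, Nat.card_eq_fintype_card, Fintype.card_subtype_compl,
    ← Nat.card_eq_fintype_card (α := {v : F × F × F // v.1 * v.1 + v.2.1 * v.2.2 = 0}), Nat.card_congr nilEquiv,
    Nat.card_eq_fintype_card]
  simp only [Fintype.card_prod]
  rw [Nat.mul_sub, mul_one]
  ring_nf

theorem model_two (hodd : Odd (Fintype.card F)) (h3 : 3 < Fintype.card F) :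
    ocnt (PG F) 2 = Fintype.card F * Fintype.card F := by
  have e := Nat.card_congr (QuotientGroup.preimageMkEquivSubgroupProdSet (Subgroup.center (GL (Fin 2) F))
    {g : PG F | orderOf g = 2})
  rw [Nat.card_prod, H37.card_center_GL, Nat.card_eq_fintype_card (α := F)] at e
  have hpre : Nat.card ↥((QuotientGroup.mk : GL (Fin 2) F → PG F) ⁻¹' {g : PG F | orderOf g = 2}) =
      Nat.card {A : GL (Fin 2) F // (A : Matrix (Fin 2) (Fin 2) F).trace = 0} :=
    Nat.card_congr (Equiv.subtypeEquivRight fun A => invol_iff hodd A)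
  rw [hpre, card_trace_zero, mul_comm _ (Fintype.card F - 1)] at e
  exact (Nat.eq_of_mul_eq_mul_left (by omega) e).symm

end H61.NsePGL
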